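/-
helper25: project Hall4 = S4221 (M. Hall: a 4-transitive group whose 4-point stabilisers have odd
order is S4, S5, A6, A7 or M11).  Common definitions.  See PLAN.md in this folder.
-/
import Mathlib
import Cfsg.Agent.Lib.Helper22.LW.ThmC

set_option autoImplicit false

namespace Cfsg.Agent.Lib.Helper25.Hall4

open MulAction Cfsg.Agent.Lib.helper4 Cfsg.Agent.Lib.Helper22.LW

/-- standing hypotheses: `K` is 4-transitive on `β` and all 4-point stabilisers have the odd
order `h`. -/
structure Hyp (K β : Type*) [Group K] [MulAction K β] (h : ℕ) : Prop where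
  trans : IsMultiplyPretransitive K β 4
  odd : Odd h
  card : ∀ v : Fin 4 ↪ β, Nat.card (stabilizer K v) = h

/-- `FixT`: for every involution `x` acting on five distinct points as `(a b)(c)(d)(e)`, the
4-point stabiliser of `a, b, c, d` fixes the third fixed point `e`. -/
def FixT (K β : Type*) [Group K] [MulAction K β] : Prop :=
  ∀ (x : K) (a b c d e : β), x * x = 1 → [a, b, c, d, e].Nodup → x • a = b → x • c = c →
    x • d = d → x • e = e → ∀ k ∈ L4 (K := K) a b c d, k • e = e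

/-- `L` has exactly two orbits `Q`, `Q'` on the finite set `Y`, both of odd length. -/
def TwoOrb {K β : Type*} [Group K] [MulAction K β] [DecidableEq β] (L : Subgroup K)
    (Y Q Q' : Finset β) : Prop :=
  Q ∪ Q' = Y ∧ Disjoint Q Q' ∧ Odd Q.card ∧ Odd Q'.card ∧
    (∀ k ∈ L, ∀ y ∈ Q, k • y ∈ Q) ∧ (∀ k ∈ L, ∀ y ∈ Q', k • y ∈ Q') ∧
    (∀ y ∈ Q, ∀ y' ∈ Q, ∃ k ∈ L, k • y = y') ∧ (∀ y ∈ Q', ∀ y' ∈ Q', ∃ k ∈ L, k • y = y')

end Cfsg.Agent.Lib.Helper25.Hall4
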