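/-
helper25: project Hall4 (S4221), pieces T-a, T-b, T-c: the involution toolkit.
-/
import Mathlib
import Cfsg.Agent.Lib.Helper25.Hall4.Defs

set_option autoImplicit false
set_option linter.unusedSectionVars false
set_option linter.unusedVariables false

namespace Cfsg.Agent.Lib.Helper25.Hall4

open MulAction Cfsg.Agent.Lib.helper4 Cfsg.Agent.Lib.Helper22.LW

variable {K β : Type*} [Group K] [Finite K] [MulAction K β] [Fintype β] [DecidableEq β] {h : ℕ}

/-! ## Piece T-a -/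

theorem inv_eq_self_of_sq {t : K} (ht : t * t = 1) : t⁻¹ = t := inv_eq_of_mul_eq_one_left ht

theorem smul_smul_of_sq {t : K} (ht : t * t = 1) (y : β) : t • t • y = y := by
  rw [← mul_smul, ht, one_smul]

theorem fix_le_three (H : Hyp K β h) {x : K} (hx : x * x = 1) {a : β} (ha : x • a ≠ a) :
    (Fset x : Finset β).card ≤ 3 := by
  by_contra hcon
  push Not at hcon
  obtain ⟨w, hw⟩ := Function.Embedding.exists_of_card_le_finset (α := Fin 4)
    (s := (Fset x : Finset β)) (by simp only [Fintype.card_fin]; omega)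
  have hxw : x ∈ stabilizer K w := by
    rw [mem_stabilizer_iff]
    ext i
    rw [Function.Embedding.smul_apply]
    exact mem_Fset.mp (hw ⟨i, rfl⟩)
  have := eq_one_of_sq_of_mem_stab H.odd H.card w hxw hx
  rw [this, one_smul] at ha
  exact ha rfl

/-- a fixed-point-free involution on a finset has an even number of points -/
theorem even_card_of_fpf {x : K} (hx : x * x = 1) (S : Finset β) (hS : ∀ y ∈ S, x • y ∈ S)
    (hfpf : ∀ y ∈ S, x • y ≠ y) : Even S.card := by
  have hsum : ∑ _y ∈ S, (1 : ZMod 2) = 0 := by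
    apply Finset.sum_involution (fun y _ => x • y)
    · intro y _
      exact CharTwo.add_self_eq_zero 1
    · intro y hy _
      exact hfpf y hy
    · intro y _
      exact smul_smul_of_sq hx y
    · intro y hy
      exact hS y hy
  rw [Finset.sum_const, nsmul_one] at hsum
  rw [even_iff_two_dvd]
  exact (ZMod.natCast_eq_zero_iff _ _).mp hsum

theorem card_Mset_even {x : K} (hx : x * x = 1) : Even (Mset x : Finset β).card := by
  apply even_card_of_fpf hx
  · intro y hy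
    rw [mem_Mset] at hy ⊢
    rw [smul_smul_of_sq hx]
    exact fun e => hy e.symm
  · intro y hy
    exact mem_Mset.mp hy

theorem exists_fixed_of_odd {x : K} (hx : x * x = 1) (S : Finset β) (hS : ∀ y ∈ S, x • y ∈ S)
    (hodd : Odd S.card) : ∃ y ∈ S, x • y = y := by
  by_contra hcon
  push Not at hcon
  have := even_card_of_fpf hx S hS hcon
  exact (Nat.not_even_iff_odd.mpr hodd) this

theorem odd_pow_smul {g : K} {p : β} (h2 : g • g • p = p) (j : ℕ) :
    g ^ (2 * j + 1) • p = g • p := by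
  induction j with
  | zero => simp
  | succ j ih =>
    have e : g ^ (2 * (j + 1) + 1) = g ^ (2 * j + 1) * g * g := by
      rw [show 2 * (j + 1) + 1 = (2 * j + 1) + 1 + 1 by ring, pow_succ, pow_succ]
    rw [e, mul_smul, mul_smul, h2, ih]

/-- an involution with a prescribed action on four points, from any element whose square fixes
the four points -/
theorem exists_inv_of_map (H : Hyp K β h) {a b c d : β} (hn : [a, b, c, d].Nodup) (g : K)
    (ha : g • g • a = a) (hb : g • g • b = b) (hc : g • g • c = c) (hd : g • g • d = d) :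
    ∃ x : K, x * x = 1 ∧ x • a = g • a ∧ x • b = g • b ∧ x • c = g • c ∧ x • d = g • d := by
  have hgg : g * g ∈ L4 (K := K) a b c d :=
    mem_L4.mpr ⟨by rw [mul_smul, ha], by rw [mul_smul, hb], by rw [mul_smul, hc],
      by rw [mul_smul, hd]⟩
  have hx2 : g ^ h * g ^ h = 1 := by
    rw [← pow_add, ← two_mul, pow_mul, pow_two]
    exact pow_eq_one_of_mem_L4 H.card hn hgg
  obtain ⟨j, hj⟩ := H.odd
  refine ⟨g ^ h, hx2, ?_, ?_, ?_, ?_⟩ <;> rw [hj]
  · exact odd_pow_smul ha j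
  · exact odd_pow_smul hb j
  · exact odd_pow_smul hc j
  · exact odd_pow_smul hd j

theorem exists_type1 (H : Hyp K β h) {a b c d : β} (hn : [a, b, c, d].Nodup) :
    ∃ x : K, x * x = 1 ∧ x • a = b ∧ x • b = a ∧ x • c = c ∧ x • d = d := by
  have hd' := hn
  simp only [List.nodup_cons, List.mem_cons, List.not_mem_nil, or_false, not_or,
    List.nodup_nil, and_true, not_false_eq_true] at hd'
  obtain ⟨⟨hab, hac, had⟩, ⟨hbc, hbd⟩, hcd⟩ := hd'
  have hn' : [b, a, c, d].Nodup := by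
    simp only [List.nodup_cons, List.mem_cons, List.not_mem_nil, or_false, not_or,
      List.nodup_nil, and_true, not_false_eq_true]
    exact ⟨⟨Ne.symm hab, hbc, hbd⟩, ⟨hac, had⟩, hcd⟩
  have := H.trans
  obtain ⟨g, g1, g2, g3, g4⟩ := exists_map4 (K := K) a b c d b a c d hn hn'
  obtain ⟨x, hx, x1, x2, x3, x4⟩ := exists_inv_of_map H hn g (by rw [g1, g2]) (by rw [g2, g1])
    (by rw [g3, g3]) (by rw [g4, g4])
  exact ⟨x, hx, by rw [x1, g1], by rw [x2, g2], by rw [x3, g3], by rw [x4, g4]⟩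

theorem exists_type2 (H : Hyp K β h) {a b c d : β} (hn : [a, b, c, d].Nodup) :
    ∃ x : K, x * x = 1 ∧ x • a = b ∧ x • b = a ∧ x • c = d ∧ x • d = c := by
  have hd' := hn
  simp only [List.nodup_cons, List.mem_cons, List.not_mem_nil, or_false, not_or,
    List.nodup_nil, and_true, not_false_eq_true] at hd'
  obtain ⟨⟨hab, hac, had⟩, ⟨hbc, hbd⟩, hcd⟩ := hd'
  have hn' : [b, a, d, c].Nodup := by
    simp only [List.nodup_cons, List.mem_cons, List.not_mem_nil, or_false, not_or,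
      List.nodup_nil, and_true, not_false_eq_true]
    exact ⟨⟨Ne.symm hab, hbd, hbc⟩, ⟨had, hac⟩, Ne.symm hcd⟩
  have := H.trans
  obtain ⟨g, g1, g2, g3, g4⟩ := exists_map4 (K := K) a b c d b a d c hn hn'
  obtain ⟨x, hx, x1, x2, x3, x4⟩ := exists_inv_of_map H hn g (by rw [g1, g2]) (by rw [g2, g1])
    (by rw [g3, g4]) (by rw [g4, g3])
  exact ⟨x, hx, by rw [x1, g1], by rw [x2, g2], by rw [x3, g3], by rw [x4, g4]⟩

/-! ## Piece T-b -/

theorem conj_of_agree (H : Hyp K β h) {x y : K} (hx : x * x = 1) (hy : y * y = 1) {a b c d : β}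
    (hn : [a, b, c, d].Nodup) (ha : x • a = y • a) (hb : x • b = y • b) (hc : x • c = y • c)
    (hd : x • d = y • d) : ∃ k ∈ L4 (K := K) a b c d, y = k * x * k⁻¹ := by
  set z : K := x * y with hz
  have hzL : z ∈ L4 (K := K) a b c d :=
    mem_L4.mpr ⟨by rw [hz, mul_smul, ← ha, smul_smul_of_sq hx],
      by rw [hz, mul_smul, ← hb, smul_smul_of_sq hx],
      by rw [hz, mul_smul, ← hc, smul_smul_of_sq hx],
      by rw [hz, mul_smul, ← hd, smul_smul_of_sq hx]⟩
  have hzh : z ^ h = 1 := pow_eq_one_of_mem_L4 H.card hn hzL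
  obtain ⟨j, hj⟩ := H.odd
  have hxinv : x⁻¹ = x := inv_eq_self_of_sq hx
  have hyinv : y⁻¹ = y := inv_eq_self_of_sq hy
  -- x z x⁻¹ = z⁻¹
  have h1 : x * z * x⁻¹ = z⁻¹ := by
    rw [hz, mul_inv_rev, hxinv, hyinv]
    calc x * (x * y) * x = (x * x) * y * x := by group
      _ = y * x := by rw [hx, one_mul]
  have h2 : x * z ^ j * x⁻¹ = (z⁻¹) ^ j := by rw [← conj_pow, h1]
  refine ⟨z ^ j, Subgroup.pow_mem _ hzL j, ?_⟩
  -- z^j x z^-j = z^j (x z^-j x⁻¹) x = z^j z^j x = z^(2j) x = z⁻¹ x = y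
  have h3 : x * (z ^ j)⁻¹ = z ^ j * x := by
    have : x * (z ^ j)⁻¹ * x⁻¹ = z ^ j := by
      have := congrArg (fun w => w⁻¹) h2
      simp only [mul_inv_rev, inv_inv, inv_pow] at this
      rw [← inv_pow] at this
      rw [hxinv] at this ⊢
      rw [← mul_assoc] at this
      rw [← inv_pow]
      exact this
    calc x * (z ^ j)⁻¹ = x * (z ^ j)⁻¹ * x⁻¹ * x := by group
      _ = z ^ j * x := by rw [this]
  have h4 : z ^ j * z ^ j = z⁻¹ := by
    rw [← pow_add, eq_inv_iff_mul_eq_one, ← pow_succ]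
    rw [show j + j + 1 = 2 * j + 1 by ring, ← hj]
    exact hzh
  calc y = z⁻¹ * x := by
        rw [hz, mul_inv_rev, hxinv, hyinv]
        calc y = y * (x * x) := by rw [hx, mul_one]
          _ = y * x * x := by group
    _ = z ^ j * z ^ j * x := by rw [h4]
    _ = z ^ j * (z ^ j * x) := by group
    _ = z ^ j * (x * (z ^ j)⁻¹) := by rw [h3]
    _ = z ^ j * x * (z ^ j)⁻¹ := by group

theorem exists_commuting (H : Hyp K β h) {s t₀ : K} (hs : s * s = 1) (ht : t₀ * t₀ = 1)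
    {a b c d : β} (hn : [a, b, c, d].Nodup)
    (hsS : ∀ p ∈ ({a, b, c, d} : Finset β), s • p ∈ ({a, b, c, d} : Finset β))
    (htS : ∀ p ∈ ({a, b, c, d} : Finset β), t₀ • p ∈ ({a, b, c, d} : Finset β))
    (hcomm : ∀ p ∈ ({a, b, c, d} : Finset β), s • t₀ • p = t₀ • s • p) :
    ∃ t : K, t * t = 1 ∧ s * t = t * s ∧ ∀ p ∈ ({a, b, c, d} : Finset β), t • p = t₀ • p := by
  set r : K := s * t₀ with hr
  have hsinv : s⁻¹ = s := inv_eq_self_of_sq hs
  have htinv : t₀⁻¹ = t₀ := inv_eq_self_of_sq ht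
  -- r • r • p = p on the 4-set
  have hrr : ∀ p ∈ ({a, b, c, d} : Finset β), r • r • p = p := by
    intro p hp
    have hq := htS p hp
    rw [hr, mul_smul, mul_smul, ← hcomm _ hq, smul_smul_of_sq ht, smul_smul_of_sq hs]
  have ma : a ∈ ({a, b, c, d} : Finset β) := by simp
  have mb : b ∈ ({a, b, c, d} : Finset β) := by simp
  have mc : c ∈ ({a, b, c, d} : Finset β) := by simp
  have md : d ∈ ({a, b, c, d} : Finset β) := by simp
  have hzL : r * r ∈ L4 (K := K) a b c d :=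
    mem_L4.mpr ⟨by rw [mul_smul, hrr a ma], by rw [mul_smul, hrr b mb],
      by rw [mul_smul, hrr c mc], by rw [mul_smul, hrr d md]⟩
  have hr2h : r ^ h * r ^ h = 1 := by
    rw [← pow_add, ← two_mul, pow_mul, pow_two]
    exact pow_eq_one_of_mem_L4 H.card hn hzL
  -- s r s = r⁻¹
  have hsr : s * r * s⁻¹ = r⁻¹ := by
    rw [hr, mul_inv_rev, hsinv, htinv]
    calc s * (s * t₀) * s = (s * s) * t₀ * s := by group
      _ = t₀ * s := by rw [hs, one_mul]
  have hsrh : s * r ^ h * s⁻¹ = (r ^ h)⁻¹ := by rw [← conj_pow, hsr, inv_pow]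
  have hrhinv : (r ^ h)⁻¹ = r ^ h := inv_eq_self_of_sq hr2h
  rw [hrhinv, hsinv] at hsrh
  refine ⟨s * r ^ h, ?_, ?_, ?_⟩
  · calc s * r ^ h * (s * r ^ h) = (s * r ^ h * s) * r ^ h := by group
      _ = 1 := by rw [hsrh, hr2h]
  · calc s * (s * r ^ h) = (s * s) * r ^ h := by group
      _ = r ^ h := by rw [hs, one_mul]
      _ = s * r ^ h * s := hsrh.symm
  · intro p hp
    obtain ⟨j, hj⟩ := H.odd
    rw [mul_smul, hj, odd_pow_smul (hrr p hp) j, hr, mul_smul, smul_smul_of_sq hs]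

theorem card_Fset_conj (g x : K) :
    (Fset (g * x * g⁻¹) : Finset β).card = (Fset x : Finset β).card := by
  have : (Fset (g * x * g⁻¹) : Finset β) = (Fset x : Finset β).image (fun y => g • y) := by
    ext y
    rw [mem_Fset, Finset.mem_image]
    constructor
    · intro hy
      refine ⟨g⁻¹ • y, ?_, smul_inv_smul g y⟩
      rw [mem_Fset]
      have := congrArg (fun w => g⁻¹ • w) hy
      simp only [mul_smul, inv_smul_smul] at this
      exact this
    · rintro ⟨w, hw, rfl⟩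
      rw [mem_Fset] at hw
      rw [mul_smul, mul_smul, inv_smul_smul, hw]
  rw [this, Finset.card_image_of_injective _ (MulAction.injective g)]

theorem all_conj (H : Hyp K β h) (hn8 : 8 ≤ Fintype.card β) {x y : K} (hx : x * x = 1)
    (hy : y * y = 1) {a b : β} (hxa : x • a ≠ a) (hyb : y • b ≠ b) :
    ∃ g : K, y = g * x * g⁻¹ := by
  have := H.trans
  -- a second transposition for an involution
  have key : ∀ (t : K) (ht : t * t = 1) (p : β), t • p ≠ p →
      ∃ q : β, t • q ≠ q ∧ q ≠ p ∧ q ≠ t • p := by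
    intro t ht p hp
    have h3 := fix_le_three H ht hp
    have hFM := card_F_add_card_M (β := β) t
    have hM5 : 2 < (Mset t : Finset β).card := by omega
    obtain ⟨q, hqM, hq⟩ : ∃ c ∈ (Mset t : Finset β), c ∉ ({p, t • p} : Finset β) :=
      Finset.exists_mem_notMem_of_card_lt_card
        (lt_of_le_of_lt Finset.card_le_two hM5)
    rw [Finset.mem_insert, Finset.mem_singleton, not_or] at hq
    exact ⟨q, mem_Mset.mp hqM, hq.1, hq.2⟩
  obtain ⟨a', ha', ha'a, ha'xa⟩ := key x hx a hxa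
  obtain ⟨b', hb', hb'b, hb'yb⟩ := key y hy b hyb
  have hxx := smul_smul_of_sq (β := β) hx
  have hyy := smul_smul_of_sq (β := β) hy
  have hbase := nodup4_of_moved_moved x hxx a a' hxa ha' ha'a ha'xa
  have htarget := nodup4_of_moved_moved y hyy b b' hyb hb' hb'b hb'yb
  obtain ⟨g, g1, g2, g3, g4⟩ :=
    exists_map4 (K := K) a (x • a) a' (x • a') b (y • b) b' (y • b') hbase htarget
  have hconj2 : (g * x * g⁻¹) * (g * x * g⁻¹) = 1 := by
    calc g * x * g⁻¹ * (g * x * g⁻¹) = g * (x * x) * g⁻¹ := by group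
      _ = 1 := by rw [hx]; group
  have e1 : g⁻¹ • b = a := by rw [inv_smul_eq_iff, g1]
  have e2 : g⁻¹ • y • b = x • a := by rw [inv_smul_eq_iff, g2]
  have e3 : g⁻¹ • b' = a' := by rw [inv_smul_eq_iff, g3]
  have e4 : g⁻¹ • y • b' = x • a' := by rw [inv_smul_eq_iff, g4]
  obtain ⟨k, hk, hyk⟩ := conj_of_agree H hconj2 hy htarget
    (by rw [mul_smul, mul_smul, e1, g2])
    (by rw [mul_smul, mul_smul, e2, hxx, g1, hyy])
    (by rw [mul_smul, mul_smul, e3, g4])
    (by rw [mul_smul, mul_smul, e4, hxx, g3, hyy])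
  refine ⟨k * g, ?_⟩
  rw [hyk]
  group

/-! ## Piece T-c -/

theorem A_trans (H : Hyp K β h) {x : K} (hx : x * x = 1) {a₀ p₁ p₂ a p q : β}
    (ha₀ : x • a₀ ≠ a₀) (hp₁ : x • p₁ = p₁) (hp₂ : x • p₂ = p₂) (hp₁₂ : p₁ ≠ p₂)
    (ha : x • a ≠ a) (hp : x • p = p) (hq : x • q = q) (hpq : p ≠ q) :
    ∃ c : K, c * x = x * c ∧ c • a₀ = a ∧ c • p₁ = p ∧ c • p₂ = q := by
  have := H.trans
  have hxx := smul_smul_of_sq (β := β) hx
  have hbase := nodup4_of_moved_fixed x hxx a₀ p₁ p₂ ha₀ hp₁ hp₂ hp₁₂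
  have htarget := nodup4_of_moved_fixed x hxx a p q ha hp hq hpq
  obtain ⟨g, g1, g2, g3, g4⟩ :=
    exists_map4 (K := K) a₀ (x • a₀) p₁ p₂ a (x • a) p q hbase htarget
  obtain ⟨v, hv, hcomm⟩ := exists_centralizing H.odd H.card x hx g htarget g1 g2 g3 g4
    (by rw [g2]) (by rw [hxx, hxx, g1]) (by rw [hp, hp₁, g3]) (by rw [hq, hp₂, g4])
  obtain ⟨v1, _, v3, v4⟩ := mem_L4.mp hv
  refine ⟨v * g, hcomm, ?_, ?_, ?_⟩
  · rw [mul_smul, g1, v1]
  · rw [mul_smul, g3, v3]
  · rw [mul_smul, g4, v4]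

theorem B_trans (H : Hyp K β h) {x : K} (hx : x * x = 1) {a₀ b₀ a b : β}
    (ha₀ : x • a₀ ≠ a₀) (hb₀ : x • b₀ ≠ b₀) (hba₀ : b₀ ≠ a₀) (hba₀' : b₀ ≠ x • a₀)
    (ha : x • a ≠ a) (hb : x • b ≠ b) (hba : b ≠ a) (hba' : b ≠ x • a) :
    ∃ c : K, c * x = x * c ∧ c • a₀ = a ∧ c • b₀ = b := by
  have := H.trans
  have hxx := smul_smul_of_sq (β := β) hx
  have hbase := nodup4_of_moved_moved x hxx a₀ b₀ ha₀ hb₀ hba₀ hba₀'
  have htarget := nodup4_of_moved_moved x hxx a b ha hb hba hba'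
  obtain ⟨g, g1, g2, g3, g4⟩ :=
    exists_map4 (K := K) a₀ (x • a₀) b₀ (x • b₀) a (x • a) b (x • b) hbase htarget
  obtain ⟨v, hv, hcomm⟩ := exists_centralizing H.odd H.card x hx g htarget g1 g2 g3 g4
    (by rw [g2]) (by rw [hxx, hxx, g1]) (by rw [g4]) (by rw [hxx, hxx, g3])
  obtain ⟨v1, _, v3, _⟩ := mem_L4.mp hv
  refine ⟨v * g, hcomm, ?_, ?_⟩
  · rw [mul_smul, g1, v1]
  · rw [mul_smul, g3, v3]

end Cfsg.Agent.Lib.Helper25.Hall4
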