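import Mathlib
import Cfsg.Agent.Lib.Helper25.Hall4.Tools
import Cfsg.Agent.Lib.Helper19.Hall4GEN
import Cfsg.Agent.Lib.helper2.Hall4E1

/-!
# Hall4 piece E2: the even-degree case (`even_case`)

A 4-transitive group of even degree at least 8 whose 4-point stabilisers have odd order does not
exist.  Uses `gen4` (helper19) and `even_two_orbits` (helper2).
-/

set_option autoImplicit false
set_option linter.unusedSectionVars false
set_option linter.unusedVariables false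

namespace Cfsg.Agent.Lib.Helper25.Hall4

open MulAction Cfsg.Agent.Lib.helper4 Cfsg.Agent.Lib.Helper22.LW
open Cfsg.Agent.Lib.Helper19.Hall4 Cfsg.Agent.Lib.helper2.Hall4

variable {K β : Type*} [Group K] [Finite K] [MulAction K β] [Fintype β] [DecidableEq β] {h : ℕ}



/-! ### local lemmas -/

/-- fixed points of an involution with two known fixed points, in even degree -/
theorem fix_sub_of_even (H : Hyp K β h) (hev : Even (Fintype.card β)) {t : K} (ht : t * t = 1)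
    {p₀ c d : β} (hp₀ : t • p₀ ≠ p₀) (hc : t • c = c) (hd : t • d = d) (hcd : c ≠ d) :
    ∀ y : β, t • y = y → y = c ∨ y = d := by
  have h3 := fix_le_three H ht hp₀
  have hM := card_Mset_even (β := β) ht
  have hFM := card_F_add_card_M (β := β) t
  have hFev : Even (Fset t : Finset β).card := by
    have : Even ((Fset t : Finset β).card + (Mset t : Finset β).card) := by rw [hFM]; exact hev
    exact (Nat.even_add.mp this).mpr hM
  have hsub : ({c, d} : Finset β) ⊆ Fset t := by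
    intro y hy
    rw [Finset.mem_insert, Finset.mem_singleton] at hy
    rcases hy with rfl | rfl
    · exact mem_Fset.mpr hc
    · exact mem_Fset.mpr hd
  have hcard2 : ({c, d} : Finset β).card = 2 := Finset.card_pair hcd
  have hle : (Fset t : Finset β).card ≤ 2 := by
    obtain ⟨m, hm⟩ := hFev
    omega
  have heq : ({c, d} : Finset β) = Fset t :=
    Finset.eq_of_subset_of_card_le hsub (by rw [hcard2]; exact hle)
  intro y hy
  have : y ∈ ({c, d} : Finset β) := by rw [heq]; exact mem_Fset.mpr hy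
  rwa [Finset.mem_insert, Finset.mem_singleton] at this


theorem fix_of_mem_L4 {a b c d : β} {k : K} (hk : k ∈ L4 (K := K) a b c d) :
    ∀ p ∈ ({a, b, c, d} : Finset β), k • p = p := by
  obtain ⟨k1, k2, k3, k4⟩ := mem_L4.mp hk
  intro p hp
  simp only [Finset.mem_insert, Finset.mem_singleton] at hp
  rcases hp with rfl | rfl | rfl | rfl
  · exact k1
  · exact k2
  · exact k3
  · exact k4

theorem mem_L4_of_fix {a b c d : β} {k : K}
    (hk : ∀ p ∈ ({a, b, c, d} : Finset β), k • p = p) : k ∈ L4 (K := K) a b c d := by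
  refine mem_L4.mpr ⟨hk a ?_, hk b ?_, hk c ?_, hk d ?_⟩ <;> simp

/-- an involution mapping the 4-set to itself normalises the 4-point stabiliser -/
theorem norm_of_pres {a b c d : β} {t : K} (ht : t * t = 1)
    (hp : ∀ p ∈ ({a, b, c, d} : Finset β), t • p ∈ ({a, b, c, d} : Finset β)) :
    ∀ k ∈ L4 (K := K) a b c d, t * k * t⁻¹ ∈ L4 (K := K) a b c d := by
  intro k hk
  apply mem_L4_of_fix
  intro p hpS
  rw [inv_eq_self_of_sq ht, mul_smul, mul_smul, fix_of_mem_L4 hk _ (hp p hpS), smul_smul_of_sq ht]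

section color

variable {a b c d : β} {Q Q' : Finset β}
  (hTO : TwoOrb (L4 (K := K) a b c d) (Finset.univ \ {a, b, c, d}) Q Q')

include hTO

theorem Q_not_mem {y : β} (hy : y ∈ Q) : y ∉ ({a, b, c, d} : Finset β) := by
  have : y ∈ Finset.univ \ ({a, b, c, d} : Finset β) := by
    rw [← hTO.1]; exact Finset.mem_union_left _ hy
  exact (Finset.mem_sdiff.mp this).2

theorem Q'_not_mem {y : β} (hy : y ∈ Q') : y ∉ ({a, b, c, d} : Finset β) := by
  have : y ∈ Finset.univ \ ({a, b, c, d} : Finset β) := by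
    rw [← hTO.1]; exact Finset.mem_union_right _ hy
  exact (Finset.mem_sdiff.mp this).2

theorem mem_Q_or_Q' {y : β} (hy : y ∉ ({a, b, c, d} : Finset β)) : y ∈ Q ∨ y ∈ Q' := by
  have : y ∈ Q ∪ Q' := by
    rw [hTO.1]; exact Finset.mem_sdiff.mpr ⟨Finset.mem_univ _, hy⟩
  exact Finset.mem_union.mp this

theorem not_mem_both {y : β} (hy : y ∈ Q) (hy' : y ∈ Q') : False :=
  (Finset.disjoint_left.mp hTO.2.1) hy hy'

/-- an involution preserving the 4-set maps the complement to itself -/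
theorem pres_compl {t : K} (ht : t * t = 1)
    (hp : ∀ p ∈ ({a, b, c, d} : Finset β), t • p ∈ ({a, b, c, d} : Finset β)) {y : β}
    (hy : y ∉ ({a, b, c, d} : Finset β)) : t • y ∉ ({a, b, c, d} : Finset β) := by
  intro hty
  apply hy
  have := hp _ hty
  rwa [smul_smul_of_sq ht] at this

/-- if `t • y₀ ∈ Q` for one `y₀ ∈ Q` then `t` maps `Q` into `Q` -/
theorem maps_Q_of_one {t : K} (ht : t * t = 1)
    (hp : ∀ p ∈ ({a, b, c, d} : Finset β), t • p ∈ ({a, b, c, d} : Finset β))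
    {R R' : Finset β} (hRtr : ∀ y ∈ R, ∀ y' ∈ R, ∃ k ∈ L4 (K := K) a b c d, k • y = y')
    (hR'inv : ∀ k ∈ L4 (K := K) a b c d, ∀ y ∈ R', k • y ∈ R')
    {y₀ : β} (hy₀ : y₀ ∈ R) (hty₀ : t • y₀ ∈ R') : ∀ y ∈ R, t • y ∈ R' := by
  intro y hy
  obtain ⟨k, hk, rfl⟩ := hRtr y₀ hy₀ y hy
  have hn := norm_of_pres ht hp k hk
  have : t • k • y₀ = (t * k * t⁻¹) • t • y₀ := by
    rw [inv_eq_self_of_sq ht, mul_smul, mul_smul, smul_smul_of_sq ht]
  rw [this]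
  exact hR'inv _ hn _ hty₀

theorem Q_nonempty : Q.Nonempty := by
  rw [← Finset.card_pos]
  obtain ⟨m, hm⟩ := hTO.2.2.1
  omega

theorem Q'_nonempty : Q'.Nonempty := by
  rw [← Finset.card_pos]
  obtain ⟨m, hm⟩ := hTO.2.2.2.1
  omega

/-- preserve / swap dichotomy -/
theorem pres_or_swap {t : K} (ht : t * t = 1)
    (hp : ∀ p ∈ ({a, b, c, d} : Finset β), t • p ∈ ({a, b, c, d} : Finset β)) :
    ((∀ y ∈ Q, t • y ∈ Q) ∧ (∀ y ∈ Q', t • y ∈ Q')) ∨
      ((∀ y ∈ Q, t • y ∈ Q') ∧ (∀ y ∈ Q', t • y ∈ Q)) := by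
  obtain ⟨hU, hD, hoQ, hoQ', hQinv, hQ'inv, hQtr, hQ'tr⟩ := hTO
  have hTO' : TwoOrb (L4 (K := K) a b c d) (Finset.univ \ {a, b, c, d}) Q Q' :=
    ⟨hU, hD, hoQ, hoQ', hQinv, hQ'inv, hQtr, hQ'tr⟩
  obtain ⟨y₀, hy₀⟩ := Q_nonempty hTO'
  obtain ⟨y₁, hy₁⟩ := Q'_nonempty hTO'
  have h0 := mem_Q_or_Q' hTO' (pres_compl hTO' ht hp (Q_not_mem hTO' hy₀))
  have h1 := mem_Q_or_Q' hTO' (pres_compl hTO' ht hp (Q'_not_mem hTO' hy₁))
  rcases h0 with h0 | h0
  · have hQQ := maps_Q_of_one hTO' ht hp hQtr hQinv hy₀ h0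
    rcases h1 with h1 | h1
    · exfalso
      have hQ'Q := maps_Q_of_one hTO' ht hp hQ'tr hQinv hy₁ h1
      have h2 := hQQ _ h1
      rw [smul_smul_of_sq ht] at h2
      exact not_mem_both hTO' h2 hy₁
    · exact Or.inl ⟨hQQ, maps_Q_of_one hTO' ht hp hQ'tr hQ'inv hy₁ h1⟩
  · have hQQ' := maps_Q_of_one hTO' ht hp hQtr hQ'inv hy₀ h0
    rcases h1 with h1 | h1
    · exact Or.inr ⟨hQQ', maps_Q_of_one hTO' ht hp hQ'tr hQinv hy₁ h1⟩
    · exfalso
      have hQ'Q' := maps_Q_of_one hTO' ht hp hQ'tr hQ'inv hy₁ h1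
      have h2 := hQ'Q' _ h0
      rw [smul_smul_of_sq ht] at h2
      exact not_mem_both hTO' hy₀ h2

/-- an involution preserving the 4-set all of whose fixed points lie in the 4-set swaps -/
theorem swap_of_fix_sub {t : K} (ht : t * t = 1)
    (hp : ∀ p ∈ ({a, b, c, d} : Finset β), t • p ∈ ({a, b, c, d} : Finset β))
    (hfix : ∀ y : β, t • y = y → y ∈ ({a, b, c, d} : Finset β)) :
    (∀ y ∈ Q, t • y ∈ Q') ∧ (∀ y ∈ Q', t • y ∈ Q) := by
  rcases pres_or_swap hTO ht hp with h1 | h1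
  · exfalso
    obtain ⟨y, hy, hty⟩ := exists_fixed_of_odd ht Q h1.1 hTO.2.2.1
    exact Q_not_mem hTO hy (hfix y hty)
  · exact h1

end color


/-- membership in the 4-set -/
theorem mem4 {a b c d p : β} : p ∈ ({a, b, c, d} : Finset β) ↔ p = a ∨ p = b ∨ p = c ∨ p = d := by
  simp only [Finset.mem_insert, Finset.mem_singleton]

/-- a pair of commuting type-1 involutions on `(a b)(c)(d)` and `(a)(b)(c d)` -/
theorem exists_pair (H : Hyp K β h) {a b c d : β} (hnd : [a, b, c, d].Nodup) :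
    ∃ s t : K, s * s = 1 ∧ t * t = 1 ∧ s * t = t * s ∧
      s • a = b ∧ s • b = a ∧ s • c = c ∧ s • d = d ∧
      t • a = a ∧ t • b = b ∧ t • c = d ∧ t • d = c := by
  have hd := hnd
  simp only [List.nodup_cons, List.mem_cons, List.not_mem_nil, or_false, not_or,
    List.nodup_nil, and_true, not_false_eq_true] at hd
  obtain ⟨⟨hab, hac, had⟩, ⟨hbc, hbd⟩, hcd⟩ := hd
  have hnd' : [c, d, a, b].Nodup := by
    simp only [List.nodup_cons, List.mem_cons, List.not_mem_nil, or_false, not_or,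
      List.nodup_nil, and_true, not_false_eq_true]
    exact ⟨⟨hcd, Ne.symm hac, Ne.symm hbc⟩, ⟨Ne.symm had, Ne.symm hbd⟩, hab⟩
  obtain ⟨s, hs, s1, s2, s3, s4⟩ := exists_type1 H hnd
  obtain ⟨t₀, ht₀, t3, t4, t1, t2⟩ := exists_type1 H hnd'
  obtain ⟨t, ht, hst, htS⟩ := exists_commuting H hs ht₀ hnd
    (by
      intro p hp
      rw [mem4] at hp ⊢
      rcases hp with rfl | rfl | rfl | rfl
      · rw [s1]; simp
      · rw [s2]; simp
      · rw [s3]; simp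
      · rw [s4]; simp)
    (by
      intro p hp
      rw [mem4] at hp ⊢
      rcases hp with rfl | rfl | rfl | rfl
      · rw [t1]; simp
      · rw [t2]; simp
      · rw [t3]; simp
      · rw [t4]; simp)
    (by
      intro p hp
      rw [mem4] at hp
      rcases hp with rfl | rfl | rfl | rfl
      · rw [t1, s1, t2]
      · rw [t2, s2, t1]
      · rw [t3, s4, s3, t3]
      · rw [t4, s3, s4, t4])
  refine ⟨s, t, hs, ht, hst, s1, s2, s3, s4, ?_, ?_, ?_, ?_⟩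
  · rw [htS a (by simp), t1]
  · rw [htS b (by simp), t2]
  · rw [htS c (by simp), t3]
  · rw [htS d (by simp), t4]


/-- unique fixed point in `Q` of an involution preserving `Q`, `Q'` (even degree) -/
theorem fixed_in_Q (H : Hyp K β h) (hev : Even (Fintype.card β)) {a b c d : β} {Q Q' : Finset β}
    (hTO : TwoOrb (L4 (K := K) a b c d) (Finset.univ \ {a, b, c, d}) Q Q')
    {v : K} (hv : v * v = 1) {p₀ : β} (hp₀ : v • p₀ ≠ p₀)
    (hQ : ∀ y ∈ Q, v • y ∈ Q) (hQ' : ∀ y ∈ Q', v • y ∈ Q') :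
    ∃ e ∈ Q, v • e = e ∧ ∀ y ∈ Q, v • y = y → y = e := by
  obtain ⟨e, heQ, hve⟩ := exists_fixed_of_odd hv Q hQ hTO.2.2.1
  obtain ⟨e', heQ', hve'⟩ := exists_fixed_of_odd hv Q' hQ' hTO.2.2.2.1
  have hee' : e ≠ e' := by
    rintro rfl
    exact not_mem_both hTO heQ heQ'
  refine ⟨e, heQ, hve, ?_⟩
  intro y hy hvy
  rcases fix_sub_of_even H hev hv hp₀ hve hve' hee' y hvy with rfl | rfl
  · rfl
  · exact absurd heQ' (fun h' => not_mem_both hTO hy h')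

theorem even_case (H : Hyp K β h) (hn8 : 8 ≤ Fintype.card β) (hev : Even (Fintype.card β)) :
    False := by
  obtain ⟨v₀⟩ : Nonempty (Fin 4 ↪ β) :=
    Function.Embedding.nonempty_of_card_le (by simp only [Fintype.card_fin]; omega)
  have hne' : ∀ i j : Fin 4, i ≠ j → v₀ i ≠ v₀ j := fun i j hij h => hij (v₀.injective h)
  obtain ⟨a, b, c, d, hab, hac, had, hbc, hbd, hcd⟩ : ∃ a b c d : β,
      a ≠ b ∧ a ≠ c ∧ a ≠ d ∧ b ≠ c ∧ b ≠ d ∧ c ≠ d :=
    ⟨v₀ 0, v₀ 1, v₀ 2, v₀ 3, hne' 0 1 (by decide), hne' 0 2 (by decide), hne' 0 3 (by decide),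
      hne' 1 2 (by decide), hne' 1 3 (by decide), hne' 2 3 (by decide)⟩
  have hnd : [a, b, c, d].Nodup := by
    simp only [List.nodup_cons, List.mem_cons, List.not_mem_nil, or_false, not_or,
      List.nodup_nil, and_true, not_false_eq_true]
    exact ⟨⟨hab, hac, had⟩, ⟨hbc, hbd⟩, hcd⟩
  have hnd2 : [a, c, b, d].Nodup := by
    simp only [List.nodup_cons, List.mem_cons, List.not_mem_nil, or_false, not_or,
      List.nodup_nil, and_true, not_false_eq_true]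
    exact ⟨⟨hac, hab, had⟩, ⟨Ne.symm hbc, hcd⟩, hbd⟩
  obtain ⟨Q, Q', hTO⟩ := even_two_orbits H hev (by omega) hnd
  obtain ⟨hU, hD, hoQ, hoQ', hQinv, hQ'inv, hQtr, hQ'tr⟩ := id hTO
  -- the two pairs of commuting type-1 involutions
  obtain ⟨s₁, t₁, hs₁, ht₁, hst₁, s₁a, s₁b, s₁c, s₁d, t₁a, t₁b, t₁c, t₁d⟩ := exists_pair H hnd
  obtain ⟨s₂, t₂, hs₂, ht₂, hst₂, s₂a, s₂c, s₂b, s₂d, t₂a, t₂c, t₂b, t₂d⟩ := exists_pair H hnd2
  -- all four preserve the 4-set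
  have P : ∀ (t : K) (x1 x2 x3 x4 : β), t • a = x1 → t • b = x2 → t • c = x3 → t • d = x4 →
      x1 ∈ ({a, b, c, d} : Finset β) → x2 ∈ ({a, b, c, d} : Finset β) →
      x3 ∈ ({a, b, c, d} : Finset β) → x4 ∈ ({a, b, c, d} : Finset β) →
      ∀ p ∈ ({a, b, c, d} : Finset β), t • p ∈ ({a, b, c, d} : Finset β) := by
    intro t x1 x2 x3 x4 e1 e2 e3 e4 m1 m2 m3 m4 p hp
    rw [mem4] at hp
    rcases hp with rfl | rfl | rfl | rfl
    · rw [e1]; exact m1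
    · rw [e2]; exact m2
    · rw [e3]; exact m3
    · rw [e4]; exact m4
  have ma : a ∈ ({a, b, c, d} : Finset β) := by simp
  have mb : b ∈ ({a, b, c, d} : Finset β) := by simp
  have mc : c ∈ ({a, b, c, d} : Finset β) := by simp
  have md : d ∈ ({a, b, c, d} : Finset β) := by simp
  have Ps₁ := P s₁ _ _ _ _ s₁a s₁b s₁c s₁d mb ma mc md
  have Pt₁ := P t₁ _ _ _ _ t₁a t₁b t₁c t₁d ma mb md mc
  have Ps₂ := P s₂ _ _ _ _ s₂a s₂b s₂c s₂d mc mb ma md
  have Pt₂ := P t₂ _ _ _ _ t₂a t₂b t₂c t₂d ma md mc mb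
  -- fixed points of the type-1 involutions lie in the 4-set
  have Fs₁ : ∀ y : β, s₁ • y = y → y ∈ ({a, b, c, d} : Finset β) := by
    intro y hy
    rcases fix_sub_of_even H hev hs₁ (p₀ := a) (by rw [s₁a]; exact Ne.symm hab) s₁c s₁d hcd y hy
      with rfl | rfl
    · exact mc
    · exact md
  have Ft₁ : ∀ y : β, t₁ • y = y → y ∈ ({a, b, c, d} : Finset β) := by
    intro y hy
    rcases fix_sub_of_even H hev ht₁ (p₀ := c) (by rw [t₁c]; exact Ne.symm hcd) t₁a t₁b hab y hy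
      with rfl | rfl
    · exact ma
    · exact mb
  have Fs₂ : ∀ y : β, s₂ • y = y → y ∈ ({a, b, c, d} : Finset β) := by
    intro y hy
    rcases fix_sub_of_even H hev hs₂ (p₀ := a) (by rw [s₂a]; exact Ne.symm hac) s₂b s₂d hbd y hy
      with rfl | rfl
    · exact mb
    · exact md
  have Ft₂ : ∀ y : β, t₂ • y = y → y ∈ ({a, b, c, d} : Finset β) := by
    intro y hy
    rcases fix_sub_of_even H hev ht₂ (p₀ := b) (by rw [t₂b]; exact Ne.symm hbd) t₂a t₂c hac y hy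
      with rfl | rfl
    · exact ma
    · exact mc
  have Ss₁ := swap_of_fix_sub hTO hs₁ Ps₁ Fs₁
  have St₁ := swap_of_fix_sub hTO ht₁ Pt₁ Ft₁
  have Ss₂ := swap_of_fix_sub hTO hs₂ Ps₂ Fs₂
  have St₂ := swap_of_fix_sub hTO ht₂ Pt₂ Ft₂
  -- v₁ and u₂
  obtain ⟨v₁, hv₁def⟩ : ∃ v₁ : K, v₁ = s₁ * t₁ := ⟨_, rfl⟩
  obtain ⟨u₂, hu₂def⟩ : ∃ u₂ : K, u₂ = s₂ * t₂ := ⟨_, rfl⟩
  have hv₁ : v₁ * v₁ = 1 := by
    rw [hv₁def]
    calc s₁ * t₁ * (s₁ * t₁) = s₁ * (t₁ * s₁) * t₁ := by group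
      _ = s₁ * (s₁ * t₁) * t₁ := by rw [hst₁]
      _ = (s₁ * s₁) * (t₁ * t₁) := by group
      _ = 1 := by rw [hs₁, ht₁, one_mul]
  have hu₂ : u₂ * u₂ = 1 := by
    rw [hu₂def]
    calc s₂ * t₂ * (s₂ * t₂) = s₂ * (t₂ * s₂) * t₂ := by group
      _ = s₂ * (s₂ * t₂) * t₂ := by rw [hst₂]
      _ = (s₂ * s₂) * (t₂ * t₂) := by group
      _ = 1 := by rw [hs₂, ht₂, one_mul]
  have v₁a : v₁ • a = b := by rw [hv₁def, mul_smul, t₁a, s₁a]
  have v₁b : v₁ • b = a := by rw [hv₁def, mul_smul, t₁b, s₁b]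
  have v₁c : v₁ • c = d := by rw [hv₁def, mul_smul, t₁c, s₁d]
  have v₁d : v₁ • d = c := by rw [hv₁def, mul_smul, t₁d, s₁c]
  have u₂a : u₂ • a = c := by rw [hu₂def, mul_smul, t₂a, s₂a]
  have u₂b : u₂ • b = d := by rw [hu₂def, mul_smul, t₂b, s₂d]
  have u₂c : u₂ • c = a := by rw [hu₂def, mul_smul, t₂c, s₂c]
  have u₂d : u₂ • d = b := by rw [hu₂def, mul_smul, t₂d, s₂b]
  have Pv₁ := P v₁ _ _ _ _ v₁a v₁b v₁c v₁d mb ma md mc
  have Pu₂ := P u₂ _ _ _ _ u₂a u₂b u₂c u₂d mc md ma mb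
  have Rv₁ : (∀ y ∈ Q, v₁ • y ∈ Q) ∧ (∀ y ∈ Q', v₁ • y ∈ Q') := by
    rw [hv₁def]
    exact ⟨fun y hy => by rw [mul_smul]; exact Ss₁.2 _ (St₁.1 y hy),
      fun y hy => by rw [mul_smul]; exact Ss₁.1 _ (St₁.2 y hy)⟩
  have Ru₂ : (∀ y ∈ Q, u₂ • y ∈ Q) ∧ (∀ y ∈ Q', u₂ • y ∈ Q') := by
    rw [hu₂def]
    exact ⟨fun y hy => by rw [mul_smul]; exact Ss₂.2 _ (St₂.1 y hy),
      fun y hy => by rw [mul_smul]; exact Ss₂.1 _ (St₂.2 y hy)⟩
  -- v₂ commuting with v₁, acting like u₂ on the 4-set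
  obtain ⟨v₂, hv₂, hv₁₂, hv₂S⟩ := exists_commuting H hv₁ hu₂ hnd Pv₁ Pu₂
    (by
      intro p hp
      rw [mem4] at hp
      rcases hp with rfl | rfl | rfl | rfl
      · rw [u₂a, v₁c, v₁a, u₂b]
      · rw [u₂b, v₁d, v₁b, u₂a]
      · rw [u₂c, v₁a, v₁c, u₂d]
      · rw [u₂d, v₁b, v₁d, u₂c])
  have v₂a : v₂ • a = c := by rw [hv₂S a ma, u₂a]
  have v₂b : v₂ • b = d := by rw [hv₂S b mb, u₂b]
  have v₂c : v₂ • c = a := by rw [hv₂S c mc, u₂c]
  have v₂d : v₂ • d = b := by rw [hv₂S d md, u₂d]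
  have Pv₂ := P v₂ _ _ _ _ v₂a v₂b v₂c v₂d mc md ma mb
  obtain ⟨k₀, hk₀, hv₂conj⟩ := conj_of_agree H hu₂ hv₂ hnd (hv₂S a ma).symm (hv₂S b mb).symm
    (hv₂S c mc).symm (hv₂S d md).symm
  have hk₀inv : k₀⁻¹ ∈ L4 (K := K) a b c d := Subgroup.inv_mem _ hk₀
  have Rv₂ : (∀ y ∈ Q, v₂ • y ∈ Q) ∧ (∀ y ∈ Q', v₂ • y ∈ Q') := by
    rw [hv₂conj]
    exact ⟨fun y hy => by
        rw [mul_smul, mul_smul]
        exact hQinv _ hk₀ _ (Ru₂.1 _ (hQinv _ hk₀inv _ hy)),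
      fun y hy => by
        rw [mul_smul, mul_smul]
        exact hQ'inv _ hk₀ _ (Ru₂.2 _ (hQ'inv _ hk₀inv _ hy))⟩
  -- v₃
  obtain ⟨v₃, hv₃def⟩ : ∃ v₃ : K, v₃ = v₁ * v₂ := ⟨_, rfl⟩
  have hv₃ : v₃ * v₃ = 1 := by
    rw [hv₃def]
    calc v₁ * v₂ * (v₁ * v₂) = v₁ * (v₂ * v₁) * v₂ := by group
      _ = v₁ * (v₁ * v₂) * v₂ := by rw [hv₁₂]
      _ = (v₁ * v₁) * (v₂ * v₂) := by group
      _ = 1 := by rw [hv₁, hv₂, one_mul]
  have v₃a : v₃ • a = d := by rw [hv₃def, mul_smul, v₂a, v₁c]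
  have Rv₃ : (∀ y ∈ Q, v₃ • y ∈ Q) ∧ (∀ y ∈ Q', v₃ • y ∈ Q') := by
    rw [hv₃def]
    exact ⟨fun y hy => by rw [mul_smul]; exact Rv₁.1 _ (Rv₂.1 y hy),
      fun y hy => by rw [mul_smul]; exact Rv₁.2 _ (Rv₂.2 y hy)⟩
  -- fixed points in Q
  obtain ⟨e₁, he₁Q, hve₁, huniq₁⟩ := fixed_in_Q H hev hTO hv₁ (p₀ := a)
    (by rw [v₁a]; exact Ne.symm hab) Rv₁.1 Rv₁.2
  obtain ⟨e₂, he₂Q, hve₂, huniq₂⟩ := fixed_in_Q H hev hTO hv₂ (p₀ := a)
    (by rw [v₂a]; exact Ne.symm hac) Rv₂.1 Rv₂.2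
  obtain ⟨e₃, he₃Q, hve₃, huniq₃⟩ := fixed_in_Q H hev hTO hv₃ (p₀ := a)
    (by rw [v₃a]; exact Ne.symm had) Rv₃.1 Rv₃.2
  -- v₂ fixes e₁
  have hv₂e₁ : v₂ • e₁ = e₁ := by
    apply huniq₁ _ (Rv₂.1 _ he₁Q)
    rw [← mul_smul, hv₁₂, mul_smul, hve₁]
  have he₂₁ : e₁ = e₂ := huniq₂ _ he₁Q hv₂e₁
  have hv₃e₁ : v₃ • e₁ = e₁ := by rw [hv₃def, mul_smul, hv₂e₁, hve₁]
  have he₃₁ : e₁ = e₃ := huniq₃ _ he₁Q hv₃e₁
  -- generation
  have hfin : Finite (L4 (K := K) a b c d) := inferInstance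
  have hLodd : Odd (Nat.card (L4 (K := K) a b c d)) := by
    rw [card_L4 H.card hnd]; exact H.odd
  have hgen : L4 (K := K) a b c d ≤ stabilizer K e₁ := by
    apply gen4 v₁ v₂ hv₁ hv₂ hv₁₂ (L4 (K := K) a b c d) hLodd
      (norm_of_pres hv₁ Pv₁) (norm_of_pres hv₂ Pv₂) (stabilizer K e₁)
    · intro k hk hcomm
      rw [mem_stabilizer_iff]
      apply huniq₁ _ (hQinv k hk _ he₁Q)
      rw [← mul_smul, ← hcomm, mul_smul, hve₁]
    · intro k hk hcomm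
      rw [mem_stabilizer_iff]
      have := huniq₂ _ (hQinv k hk _ he₁Q) (by rw [← mul_smul, ← hcomm, mul_smul, hv₂e₁])
      rw [this, ← he₂₁]
    · intro k hk hcomm
      rw [mem_stabilizer_iff]
      have hcomm' : k * v₃ = v₃ * k := by rw [hv₃def]; exact hcomm
      have := huniq₃ _ (hQinv k hk _ he₁Q)
        (by rw [← mul_smul, ← hcomm', mul_smul, hv₃e₁])
      rw [this, ← he₃₁]
  -- Q = {e₁}
  have hQ1 : Q.card ≤ 1 := by
    apply Finset.card_le_one.mpr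
    intro y hy y' hy'
    obtain ⟨k, hk, rfl⟩ := hQtr e₁ he₁Q y hy
    obtain ⟨k', hk', rfl⟩ := hQtr e₁ he₁Q y' hy'
    rw [mem_stabilizer_iff.mp (hgen hk), mem_stabilizer_iff.mp (hgen hk')]
  -- |Q'| ≤ |Q| via s₁
  have hQ'Q : Q'.card ≤ Q.card := by
    apply Finset.card_le_card_of_injOn (fun y => s₁ • y)
    · intro y hy
      exact Ss₁.2 y hy
    · intro y _ y' _ hyy'
      exact smul_left_cancel s₁ hyy'
  have hYcard : (Finset.univ \ ({a, b, c, d} : Finset β)).card = Fintype.card β - 4 := by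
    rw [Finset.card_sdiff_of_subset (Finset.subset_univ _), Finset.card_univ]
    congr 1
    rw [Finset.card_insert_of_notMem, Finset.card_insert_of_notMem,
      Finset.card_insert_of_notMem, Finset.card_singleton]
    · simpa using hcd
    · simp only [Finset.mem_insert, Finset.mem_singleton, not_or]; exact ⟨hbc, hbd⟩
    · simp only [Finset.mem_insert, Finset.mem_singleton, not_or]; exact ⟨hab, hac, had⟩
  have hsum : Q.card + Q'.card = Fintype.card β - 4 := by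
    rw [← hYcard, ← hU, Finset.card_union_of_disjoint hD]
  omega

end Cfsg.Agent.Lib.Helper25.Hall4
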