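import Mathlib
import Cfsg.Agent.Lib.Helper25.Hall4.Even
import Cfsg.Agent.Lib.Helper13.Hall4O2
import Cfsg.Agent.Lib.Helper13.Hall4O3
import Cfsg.Agent.Lib.Helper1.Hall4O4

/-!
# Hall4: assembly of the odd-degree case (`odd_case`)

A faithful 4-transitive group of odd degree at least 8 whose 4-point stabilisers have odd order
`h` has `h = 1`.  Combines `fixT_false`, `trans_of_not_fixT` (helper13), `odd_trans_false`
(helper1) and `even_case`.
-/

set_option autoImplicit false

namespace Cfsg.Agent.Lib.Helper25.Hall4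

open MulAction Cfsg.Agent.Lib.helper4 Cfsg.Agent.Lib.Helper22.LW

universe u

theorem odd_case {K β : Type u} [Group K] [Finite K] [MulAction K β] [Fintype β] [DecidableEq β]
    [FaithfulSMul K β] {h : ℕ} (H : Hyp K β h) (hn8 : 8 ≤ Fintype.card β)
    (hod : Odd (Fintype.card β)) : h = 1 := by
  by_contra h1
  by_cases hF : FixT K β
  · exact Cfsg.Agent.Lib.Helper13.Hall4.fixT_false H hn8 hod h1 hF
  · exact Cfsg.Agent.Lib.Helper1.Hall4.odd_trans_false
      (fun K β _ _ _ _ _ h H hn hev => even_case H hn hev) H hn8 hod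
      (fun hnd y y' hy hy' =>
        Cfsg.Agent.Lib.Helper13.Hall4.trans_of_not_fixT H hn8 hod hF hnd hy hy')

end Cfsg.Agent.Lib.Helper25.Hall4
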